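import Groth.Agent.CocommUnip19.Mult
import Groth.Agent.CocommUnip19.Split

/-!
The largest subgroup of multiplicative type is functorial and preserves injectivity of Hopf maps.
-/

set_option autoImplicit false
set_option linter.style.haveILetI false
set_option synthInstance.maxHeartbeats 400000

universe u

noncomputable section

open TensorProduct

namespace Groth.Agent.MultMax90

open Groth.Agent.Comod Groth.Agent.CocommUnip19

variable {k : Type u} [Field k]
variable {A : Type u} [CommRing A] [HopfAlgebra k A]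
variable {A₂ : Type u} [CommRing A₂] [HopfAlgebra k A₂]

theorem map_mem_fil (φ : A₂ →ₐc[k] A) : ∀ n, ∀ x ∈ fil k A₂ A₂ n, φ x ∈ fil k A A n
  | 0, x, hx => by rw [show x = 0 from (Submodule.mem_bot k).1 hx, map_zero]; exact zero_mem _
  | n + 1, x, hx => by
    refine mem_fil_succ_iff.2 fun χ => ?_
    have h := map_mem_fil φ n _ (mem_fil_succ_iff.1 hx (χ ∘ₗ (φ : A₂ →ₗ[k] A)))
    rw [map_sub, map_smul] at h
    rw [TrigUnip.contract_comul_map φ χ x]
    simpa using h

variable [Coalgebra.IsCocomm k A] [Coalgebra.IsCocomm k A₂]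

theorem mem_multIdeal {x : A} (hx : x ∈ unitComp k A) (h0 : Coalgebra.counit (R := k) x = 0) :
    x ∈ multIdeal k A := by
  letI := HopfSub.hopfAlgebra (isHopfSubalgebra_unitComp (k := k) (A := A))
  exact Ideal.mem_map_of_mem _ (show (⟨x, hx⟩ : unitComp k A) ∈
    RingHom.ker (Bialgebra.counitAlgHom k (unitComp k A)) from h0)

theorem multIdeal_le_of {I : Ideal A}
    (h : ∀ x : A, x ∈ unitComp k A → Coalgebra.counit (R := k) x = 0 → x ∈ I) : multIdeal k A ≤ I := by
  letI := HopfSub.hopfAlgebra (isHopfSubalgebra_unitComp (k := k) (A := A))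
  exact Ideal.map_le_iff_le_comap.2 fun b hb => h _ b.2 hb

theorem multIdeal_le_comap (φ : A₂ →ₐc[k] A) :
    multIdeal k A₂ ≤ (multIdeal k A).comap (φ : A₂ →ₐ[k] A) := by
  refine multIdeal_le_of fun x ⟨n, hn⟩ h0 => ?_
  exact mem_multIdeal ⟨n, map_mem_fil φ n x hn⟩ ((CoalgHomClass.counit_comp_apply φ x).trans h0)

theorem multIdeal_le_ker [Algebra.FiniteType k A] {C : Type u} [CommRing C] [HopfAlgebra k C]
    [Algebra.FiniteType k C] [Coalgebra.IsCocomm k C] (hC : SGA3b.IsMultTypeConst k C)
    (ψ : A →ₐc[k] C) : multIdeal k A ≤ RingHom.ker (ψ : A →ₐ[k] C) := by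
  letI := HopfSub.hopfAlgebra (isHopfSubalgebra_unitComp (k := k) (A := A))
  let ι := HopfSub.incl (isHopfSubalgebra_unitComp (k := k) (A := A))
  haveI : Algebra.FiniteType k (unitComp k A) := Comod.Image2.finiteType_of_injective ι Subtype.val_injective
  have h := (S2966.result (isDiagonalizable_of_isMultTypeConst hC)
    (isUnipotent_unitComp (k := k) (A := A))).1 (ψ.comp ι)
  refine multIdeal_le_of fun x hx h0 => ?_
  rw [RingHom.mem_ker]
  refine (h ⟨x, hx⟩).trans ?_
  rw [show Coalgebra.counit (R := k) (⟨x, hx⟩ : unitComp k A) = 0 from h0, map_zero]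

/-- The map between the largest subgroups of multiplicative type. -/
def qmap (φ : A₂ →ₐc[k] A) : A₂ ⧸ multIdeal k A₂ →ₐc[k] A ⧸ multIdeal k A :=
  .ofAlgHom (Ideal.quotientMapₐ (multIdeal k A) (φ : A₂ →ₐ[k] A) (multIdeal_le_comap φ))
    (Ideal.Quotient.algHom_ext k (AlgHom.ext fun a => CoalgHomClass.counit_comp_apply φ a))
    (Ideal.Quotient.algHom_ext k (AlgHom.ext fun a => by
      show Algebra.TensorProduct.map _ _ (Algebra.TensorProduct.map (Ideal.Quotient.mkₐ k _)
          (Ideal.Quotient.mkₐ k _) (Coalgebra.comul (R := k) a)) =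
        Algebra.TensorProduct.map (Ideal.Quotient.mkₐ k _) (Ideal.Quotient.mkₐ k _)
          (Coalgebra.comul (R := k) (φ a))
      rw [← CoalgHomClass.map_comp_comul_apply φ a]
      induction Coalgebra.comul (R := k) a using TensorProduct.induction_on with
      | zero => simp
      | tmul p q => rfl
      | add p q hp hq => simp only [map_add, hp, hq]))

theorem qmap_mk (φ : A₂ →ₐc[k] A) (a : A₂) :
    qmap φ (Ideal.Quotient.mk _ a) = Ideal.Quotient.mk (multIdeal k A) (φ a) := rfl

variable (k A) in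
/-- Base change of the projection. -/
abbrev proj (K : Type u) [Field K] [Algebra k K] : K ⊗[k] A →ₐc[K] K ⊗[k] (A ⧸ multIdeal k A) :=
  TrigGalois.bcHom K (Bialgebra.Quotient.mkBialgHom (multIdeal k A))

omit [Coalgebra.IsCocomm k A₂] in
set_option maxHeartbeats 1000000 in
/-- Characters are determined by their restriction to the largest subgroup of multiplicative type. -/
theorem proj_injOn (K : Type u) [Field K] [Algebra k K] [PerfectField K] {g₁ g₂ : K ⊗[k] A}
    (h₁ : IsGroupLikeElem K g₁) (h₂ : IsGroupLikeElem K g₂) (h : proj k A K g₁ = proj k A K g₂) :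
    g₁ = g₂ := by
  classical
  let X := K ⊗[k] A
  let e := AlgEquiv.ofBijective (mulMap (k := K) (A := X)) ⟨injective_mulMap, surjective_mulMap⟩
  letI := HopfSub.hopfAlgebra (TrigGalois.isHopf_desc (k := K) (A := X) (AlgebraicClosure K))
  letI := HopfSub.hopfAlgebra (isHopfSubalgebra_unitComp (k := K) (A := X))
  let rC : X →ₐ[K] coradical K X := (Algebra.TensorProduct.productMap (AlgHom.id K _)
    ((Algebra.ofId K (coradical K X)).comp (Bialgebra.counitAlgHom K (unitComp K X)))).comp e.symm.toAlgHom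
  have hrB : ∀ b : unitComp K X, rC b = algebraMap K _ (Coalgebra.counit (R := K) (b : X)) := fun b => by
    have he : e.symm (b : X) = 1 ⊗ₜ[K] b := e.injective (by
      rw [AlgEquiv.apply_symm_apply]; simp [e, mulMap])
    simp [rC, he]
    rfl
  have hrC : ∀ c : coradical K X, rC c = c := fun c => by
    have he : e.symm (c : X) = c ⊗ₜ[K] 1 := e.injective (by
      rw [AlgEquiv.apply_symm_apply]; simp [e, mulMap])
    simp [rC, he]
  have hcor : ∀ g : X, IsGroupLikeElem K g → g ∈ coradical K X := fun g hg => by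
    refine Submodule.subset_span ⟨?_, ?_⟩
    · simp [TensorProduct.counit_tmul, hg.counit_eq_one]
    · rw [TensorProduct.comul_tmul, CommSemiring.comul_apply, hg.comul_eq_tmul_self]
      simp
  have hkill : ∀ a ∈ multIdeal k A, rC ((1 : K) ⊗ₜ[k] a) = 0 := by
    suffices multIdeal k A ≤ RingHom.ker ((rC.restrictScalars k).comp
        (Algebra.TensorProduct.includeRight : A →ₐ[k] X)) from fun a ha => this ha
    refine multIdeal_le_of fun x hx h0 => ?_
    obtain ⟨n, hn⟩ := hx
    rw [RingHom.mem_ker]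
    refine (hrB ⟨(1 : K) ⊗ₜ[k] x, n, inc_mem_fil K n x hn⟩).trans ?_
    show algebraMap K _ (Coalgebra.counit (R := K) ((1 : K) ⊗ₜ[k] x)) = 0
    erw [TensorProduct.counit_tmul, h0, zero_smul, map_zero]
  let r' : K ⊗[k] (A ⧸ multIdeal k A) →ₐ[K] coradical K X :=
    Algebra.TensorProduct.lift (Algebra.ofId K _)
      (Ideal.Quotient.liftₐ _ ((rC.restrictScalars k).comp
        (Algebra.TensorProduct.includeRight : A →ₐ[k] X)) hkill) fun _ _ => Commute.all _ _
  have hr' : ∀ z : X, r' (proj k A K z) = rC z := fun z => by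
    induction z using TensorProduct.induction_on with
    | zero => simp
    | add p q hp hq => rw [map_add, map_add, hp, hq, map_add]
    | tmul c a =>
      rw [show (c ⊗ₜ[k] a : X) = c • ((1 : K) ⊗ₜ[k] a) by simp [TensorProduct.smul_tmul'], map_smul, map_smul,
        map_smul]
      show c • r' ((1 : K) ⊗ₜ[k] Ideal.Quotient.mk (multIdeal k A) a) = _
      simp [r']
      rfl
  have := congrArg r' h
  rw [hr', hr', hrC ⟨g₁, hcor g₁ h₁⟩, hrC ⟨g₂, hcor g₂ h₂⟩] at this
  exact congrArg Subtype.val this

set_option maxHeartbeats 1000000 in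
omit [Coalgebra.IsCocomm k A₂] in
theorem proj_span [Coalgebra.IsCocomm k A] (L : Type u) [Field L] [Algebra k L] [IsAlgClosed L]
    (y : L ⊗[k] (A ⧸ multIdeal k A)) :
    y ∈ Submodule.span L (Set.range fun g : GroupLike L (L ⊗[k] A) => proj k A L (g : L ⊗[k] A)) := by
  obtain ⟨x, rfl⟩ : ∃ x, proj k A L x = y := by
    induction y using TensorProduct.induction_on with
    | zero => exact ⟨0, map_zero _⟩
    | add a b ha hb =>
      obtain ⟨a', rfl⟩ := ha
      obtain ⟨b', rfl⟩ := hb
      exact ⟨a' + b', map_add _ _ _⟩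
    | tmul c q =>
      obtain ⟨a, rfl⟩ := Ideal.Quotient.mk_surjective q
      exact ⟨c ⊗ₜ[k] a, rfl⟩
  have hx : x ∈ translAll L (L ⊗[k] A) := by
    rw [translAll_eq_top (Comod.isTrigonalizable_of_cocomm (k := L) (A := L ⊗[k] A))]
    trivial
  obtain ⟨F, N, hxF⟩ := mem_translAll.1 hx
  suffices h : transl F N ≤ (Submodule.span L (Set.range fun g : GroupLike L (L ⊗[k] A) =>
      proj k A L (g : L ⊗[k] A))).comap (proj k A L : L ⊗[k] A →ₗ[L] L ⊗[k] (A ⧸ multIdeal k A)) from h hxF
  refine iSup₂_le fun g _ => ?_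
  rintro _ ⟨z, hz, rfl⟩
  rw [Submodule.mem_comap, LinearMap.mulLeft_apply]
  show proj k A L ((g : L ⊗[k] A) * z) ∈ _
  obtain ⟨b⟩ : Nonempty (Module.Basis (Module.Free.ChooseBasisIndex k L) k L) := ⟨Module.Free.chooseBasis k L⟩
  have hsc : ∃ c : L, proj k A L z = algebraMap L _ c := by
    classical
    let d := TensorProduct.equivFinsuppOfBasisLeft b z
    have hd : ∀ w : L ⊗[k] A, ∀ i, TensorProduct.equivFinsuppOfBasisLeft b w i = coord b i w := fun w i => by
      induction w using TensorProduct.induction_on with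
      | zero => simp
      | add a c ha hc => simp only [map_add, Finsupp.add_apply, ha, hc]
      | tmul c a => simp [coord_tmul]
    refine ⟨∑ i ∈ d.support, Coalgebra.counit (R := k) (d i) • b i, ?_⟩
    conv_lhs => rw [← (TensorProduct.equivFinsuppOfBasisLeft b).symm_apply_apply z]
    rw [show (TensorProduct.equivFinsuppOfBasisLeft b z) = d from rfl, TensorProduct.equivFinsuppOfBasisLeft_symm_apply]
    simp only [Finsupp.sum, map_sum]
    refine Finset.sum_congr rfl fun i _ => ?_
    have hm : d i ∈ unitComp k A := ⟨N, (hd z i).symm ▸ coord_mem_fil L b i N z hz⟩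
    letI := HopfSub.hopfAlgebra (isHopfSubalgebra_unitComp (k := k) (A := A))
    have hq : Ideal.Quotient.mk (multIdeal k A) (d i) =
        algebraMap k (A ⧸ multIdeal k A) (Coalgebra.counit (R := k) (d i)) :=
      KerHopf.mk_comp (HopfSub.incl (isHopfSubalgebra_unitComp (k := k) (A := A))) ⟨d i, hm⟩
    show b i ⊗ₜ[k] Ideal.Quotient.mk (multIdeal k A) (d i) = _
    rw [hq]
    simp [Algebra.algebraMap_eq_smul_one, Algebra.TensorProduct.one_def, TensorProduct.smul_tmul',
      TensorProduct.tmul_smul]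
  obtain ⟨c, hc⟩ := hsc
  rw [map_mul, hc, mul_comm, ← Algebra.smul_def]
  exact Submodule.smul_mem _ c (Submodule.subset_span ⟨g, rfl⟩)

theorem qmap_injective (φ : A₂ →ₐc[k] A) (hφ : Function.Injective φ) : Function.Injective (qmap φ) := by
  classical
  let K := AlgebraicClosure k
  let qK := TrigGalois.bcHom K (qmap φ)
  let F := TrigGalois.bcHom K φ
  have hF : Function.Injective F := TrigGalois.bcHom_injective K hφ
  have hcomm : ∀ z, qK (proj k A₂ K z) = proj k A K (F z) := fun z => by
    induction z using TensorProduct.induction_on with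
    | zero => simp
    | add p q hp hq => simp only [map_add, hp, hq]
    | tmul c a => rfl
  let fm : GroupLike K (K ⊗[k] A₂) → GroupLike K (K ⊗[k] (A ⧸ multIdeal k A)) := fun g =>
    ⟨_, (g.isGroupLikeElem_val.map F).map (proj k A K)⟩
  have hfm : Function.Injective fm := fun g g' h => GroupLike.ext (hF
    (proj_injOn K (g.isGroupLikeElem_val.map F) (g'.isGroupLikeElem_val.map F) (congrArg GroupLike.val h)))
  have hli := linearIndep_groupLikeVal.comp fm hfm
  have hqK : Function.Injective qK := by
    refine (injective_iff_map_eq_zero _).2 fun w hw => ?_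
    obtain ⟨l, rfl⟩ := Finsupp.mem_span_range_iff_exists_finsupp.1 (proj_span (k := k) (A := A₂) K w)
    have h0 : Finsupp.linearCombination K (GroupLike.val ∘ fm) l = 0 := by
      rw [← hw, Finsupp.linearCombination_apply, Finsupp.sum, Finsupp.sum, map_sum]
      refine Finset.sum_congr rfl fun g _ => ?_
      rw [map_smul, hcomm]
      rfl
    rw [show l = 0 from linearIndependent_iff.1 hli l h0, Finsupp.sum_zero_index]
  intro x y h
  refine Algebra.TensorProduct.includeRight_injective (R := k) (A := K) (algebraMap k K).injective (hqK ?_)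
  show (1 : K) ⊗ₜ[k] qmap φ x = (1 : K) ⊗ₜ[k] qmap φ y
  rw [h]

end Groth.Agent.MultMax90
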